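import Groth.Agent.E4O.NormFlatPiece
import Mathlib.RingTheory.MvPolynomial.Homogeneous
import Mathlib.RingTheory.Polynomial.Basic

/-! Bounds on the degrees of the relations of an associated graded module (used for EGA IV 11.2.9). -/

set_option autoImplicit false
set_option linter.style.haveILetI false
universe u

open TensorProduct MvPolynomial

namespace Groth.Agent.GrStage62

open E4O.NormFlat

variable {B : Type u} [CommRing B] {M : Type u} [AddCommGroup M] [Module B M] {r m : ℕ}
  (g : Fin r → B) (e : Fin m → M)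

/-- The free graded cover of the associated graded module. -/
abbrev Cover (B : Type u) [CommRing B] (r m : ℕ) : Type u := Fin m → MvPolynomial (Fin r) B

/-- Evaluation in the module. -/
noncomputable def val : Cover B r m →ₗ[B] M :=
  ∑ j, (LinearMap.toSpanSingleton B M (e j)).comp ((aeval g).toLinearMap.comp (LinearMap.proj j))

theorem val_apply (x : Cover B r m) : val g e x = ∑ j, aeval g (x j) • e j := by
  simp [val]

/-- Multiplication by a variable. -/
noncomputable def mulX (i : Fin r) : Cover B r m →ₗ[B] Cover B r m :=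
  LinearMap.pi fun j => (LinearMap.mulLeft B (X i)).comp (LinearMap.proj j)

@[simp] theorem mulX_apply (i : Fin r) (x : Cover B r m) (j : Fin m) : mulX i x j = X i * x j := rfl

theorem mulX_eq_smul (i : Fin r) (x : Cover B r m) :
    mulX i x = (X i : MvPolynomial (Fin r) B) • x := rfl

theorem val_mulX (i : Fin r) (x : Cover B r m) : val g e (mulX i x) = g i • val g e x := by
  simp [val_apply, Finset.smul_sum, mul_smul]

variable (B r m) in
/-- The homogeneous part of degree `k` of the cover. -/
noncomputable def Deg : ℕ → Submodule B (Cover B r m)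
  | 0 => LinearMap.range (LinearMap.pi fun j => (Algebra.linearMap B (MvPolynomial (Fin r) B)).comp (LinearMap.proj j))
  | k + 1 => ⨆ i, (Deg k).map (mulX i)

theorem isHomogeneous_of_mem {k : ℕ} {x : Cover B r m} (hx : x ∈ Deg B r m k) (j : Fin m) :
    (x j).IsHomogeneous k := by
  induction k generalizing x with
  | zero =>
    obtain ⟨c, rfl⟩ := hx
    exact isHomogeneous_C _ _
  | succ k ih =>
    rw [Deg] at hx
    refine Submodule.iSup_induction _ (motive := fun x => (x j).IsHomogeneous (k + 1)) hx ?_ ?_ ?_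
    · rintro i _ ⟨y, hy, rfl⟩
      rw [mulX_apply, add_comm]
      exact (isHomogeneous_X B i).mul (ih hy)
    · exact isHomogeneous_zero _ _ _
    · exact fun a b ha hb => ha.add hb

theorem map_val (J : Ideal B) (hg : Ideal.span (Set.range g) = J) (he : Submodule.span B (Set.range e) = ⊤) (k : ℕ) :
    (Deg B r m k).map (val g e) = J ^ k • ⊤ := by
  induction k with
  | zero =>
    rw [pow_zero, Ideal.one_eq_top, Submodule.top_smul, eq_top_iff, ← he, Submodule.span_le]
    rintro _ ⟨j, rfl⟩
    refine ⟨fun j' => C (if j' = j then 1 else 0), ⟨fun j' => if j' = j then 1 else 0, rfl⟩, ?_⟩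
    simp [val_apply, ite_smul]
  | succ k ih =>
    rw [Deg, Submodule.map_iSup, pow_succ', Submodule.mul_smul, ← ih]
    refine le_antisymm (iSup_le fun i => ?_) (Submodule.smul_le.2 fun a ha y hy => ?_)
    · rintro _ ⟨_, ⟨y, hy, rfl⟩, rfl⟩
      rw [val_mulX]
      exact Submodule.smul_mem_smul (hg ▸ Ideal.subset_span ⟨i, rfl⟩) ⟨y, hy, rfl⟩
    · rw [← hg] at ha
      induction ha using Submodule.span_induction with
      | mem a ha =>
        obtain ⟨i, rfl⟩ := ha
        obtain ⟨z, hz, rfl⟩ := hy
        rw [← val_mulX]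
        exact Submodule.mem_iSup_of_mem i ⟨_, ⟨z, hz, rfl⟩, rfl⟩
      | zero => simp
      | add a b _ _ ha hb => rw [add_smul]; exact add_mem ha hb
      | smul c a _ ha => rw [smul_assoc]; exact Submodule.smul_mem _ c ha

variable (J : Ideal B)

/-- The relations of degree `k`. -/
noncomputable def Rel (k : ℕ) : Submodule B (Cover B r m) :=
  Deg B r m k ⊓ (J ^ (k + 1) • (⊤ : Submodule B M)).comap (val g e)

/-- Relations in degree above `n` come from those one degree lower. -/
def Bound (n : ℕ) : Prop := ∀ k, n ≤ k → Rel g e J (k + 1) ≤ ⨆ i, (Rel g e J k).map (mulX i)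

theorem Bound.mono {n n' : ℕ} (h : Bound g e J n) (hn : n ≤ n') : Bound g e J n' :=
  fun k hk => h k (hn.trans hk)

theorem mulX_mem_rel (hg : Ideal.span (Set.range g) = J) {k : ℕ} {x : Cover B r m} (hx : x ∈ Rel g e J k) (i : Fin r) :
    mulX i x ∈ Rel g e J (k + 1) := by
  refine ⟨Submodule.mem_iSup_of_mem i ⟨x, hx.1, rfl⟩, ?_⟩
  show val g e (mulX i x) ∈ J ^ (k + 1 + 1) • (⊤ : Submodule B M)
  rw [val_mulX, pow_succ', Submodule.mul_smul]
  exact Submodule.smul_mem_smul (hg ▸ Ideal.subset_span ⟨i, rfl⟩) hx.2

/-- The homogeneous components of a vector. -/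
noncomputable def comp (k : ℕ) : Cover B r m →ₗ[B] Cover B r m :=
  LinearMap.pi fun j => (homogeneousComponent k).comp (LinearMap.proj j)

theorem homogeneousComponent_X_mul (p : MvPolynomial (Fin r) B) (i : Fin r) (k : ℕ) :
    homogeneousComponent (k + 1) (X i * p) = X i * homogeneousComponent k p := by
  induction p using MvPolynomial.induction_on' with
  | monomial d c =>
    have h1 : (monomial d c).IsHomogeneous d.degree := isHomogeneous_monomial c rfl
    have h2 := (isHomogeneous_X B i).mul h1
    rw [homogeneousComponent_of_mem h1, homogeneousComponent_of_mem h2]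
    by_cases h : k = d.degree
    · rw [if_pos h, if_pos (by omega)]
    · rw [if_neg h, if_neg (by omega), mul_zero]
  | add p q hp hq => rw [mul_add, map_add, map_add, hp, hq, mul_add]

theorem comp_mulX (i : Fin r) (x : Cover B r m) (k : ℕ) : comp (k + 1) (mulX i x) = mulX i (comp k x) :=
  funext fun j => homogeneousComponent_X_mul (x j) i k

theorem comp_zero_mulX (i : Fin r) (x : Cover B r m) : comp 0 (mulX i x) = 0 := by
  funext j
  simp [comp, homogeneousComponent_zero, coeff_X_mul']

theorem comp_of_mem {d : ℕ} {x : Cover B r m} (hx : x ∈ Deg B r m d) (k : ℕ) :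
    comp k x = if d = k then x else 0 := by
  funext j
  show homogeneousComponent k (x j) = _
  rw [homogeneousComponent_of_mem (isHomogeneous_of_mem hx j)]
  by_cases h : d = k
  · rw [if_pos h, if_pos h.symm]
  · rw [if_neg h, if_neg (Ne.symm h)]; rfl

theorem exists_bound [IsNoetherianRing B] (hg : Ideal.span (Set.range g) = J) : ∃ n, Bound g e J n := by
  let S := MvPolynomial (Fin r) B
  let N : ℕ →o Submodule S (Cover B r m) :=
    ⟨fun n => Submodule.span S (⋃ d ≤ n, (Rel g e J d : Set (Cover B r m))), fun a b hab =>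
      Submodule.span_mono (Set.biUnion_subset_biUnion_left fun d (hd : d ≤ a) => hd.trans hab)⟩
  obtain ⟨n, hn⟩ := monotone_stabilizes_iff_noetherian.2 (inferInstance : IsNoetherian S (Cover B r m)) N
  refine ⟨n, fun k hk x hx => ?_⟩
  have hxN : x ∈ N k := by
    rw [← hn k hk, hn (k + 1) (hk.trans k.le_succ)]
    exact Submodule.subset_span (Set.mem_biUnion (le_refl (k + 1)) hx)
  let Tg := ⨆ i, (Rel g e J k).map (mulX i)
  have key : ∀ (a : S) (d : ℕ) (y : Cover B r m), y ∈ Rel g e J d → ∀ K,
      comp K (a • y) ∈ Rel g e J K ∧ (K = k + 1 → d ≤ k → comp K (a • y) ∈ Tg) := by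
    intro a
    induction a using MvPolynomial.induction_on with
    | C c =>
      intro d y hy K
      have h1 : (C c : S) • y = c • y := funext fun j => (MvPolynomial.C_mul' (a := c) (p := y j))
      rw [h1, map_smul, comp_of_mem hy.1]
      refine ⟨Submodule.smul_mem _ _ ?_, fun hK hd => ?_⟩
      · split_ifs with h
        · exact h ▸ hy
        · exact zero_mem _
      · rw [if_neg (by omega), smul_zero]; exact zero_mem _
    | add a b ha hb =>
      intro d y hy K
      rw [add_smul, map_add]
      exact ⟨add_mem (ha d y hy K).1 (hb d y hy K).1,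
        fun hK hd => add_mem ((ha d y hy K).2 hK hd) ((hb d y hy K).2 hK hd)⟩
    | mul_X a i ha =>
      intro d y hy K
      rw [mul_comm, mul_smul, ← mulX_eq_smul]
      rcases K with _ | K
      · rw [comp_zero_mulX]; exact ⟨zero_mem _, fun h => absurd h (by omega)⟩
      · rw [comp_mulX]
        refine ⟨mulX_mem_rel g e J hg (ha d y hy K).1 i, fun hK hd => ?_⟩
        obtain rfl : K = k := by omega
        exact Submodule.mem_iSup_of_mem i ⟨_, (ha d y hy K).1, rfl⟩
  have h2 : comp (k + 1) x ∈ Tg := by
    refine Submodule.closure_induction (p := fun z _ => comp (k + 1) z ∈ Tg) (by simp) ?_ ?_ hxN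
    · intro a b _ _ ha hb
      rw [map_add]; exact add_mem ha hb
    · intro a z hz
      obtain ⟨d, hd, hz⟩ := Set.mem_iUnion₂.1 hz
      exact (key a d z hz (k + 1)).2 rfl hd
  rwa [comp_of_mem hx.1, if_pos rfl] at h2

section BaseChange

variable (B' : Type u) [CommRing B'] [Algebra B B']

/-- Change of coefficients. -/
noncomputable def mapC : Cover B r m →ₗ[B] Cover B' r m :=
  LinearMap.pi fun j => (MvPolynomial.mapAlgHom (Algebra.ofId B B')).toLinearMap.comp (LinearMap.proj j)

variable {M' : Type u} [AddCommGroup M'] [Module B' M'] [Module B M'] [IsScalarTower B B' M'] (h : M →ₗ[B] M')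

theorem val_mapC (x : Cover B r m) :
    val (fun i => algebraMap B B' (g i)) (fun j => h (e j)) (mapC B' x) = h (val g e x) := by
  have key : ∀ p : MvPolynomial (Fin r) B,
      aeval (fun i => algebraMap B B' (g i)) (MvPolynomial.mapAlgHom (Algebra.ofId B B') p) = algebraMap B B' (aeval g p) := by
    intro p
    induction p using MvPolynomial.induction_on with
    | C c => simp
    | add p q hp hq => simp only [map_add, hp, hq]
    | mul_X p i hp => simp only [map_mul, hp]; simp
  rw [val_apply, val_apply, map_sum]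
  refine Finset.sum_congr rfl fun j _ => ?_
  rw [map_smul, ← algebraMap_smul B' (aeval g (x j)) (h (e j)), ← key]
  rfl

theorem mapC_mulX (i : Fin r) (x : Cover B r m) : mapC B' (mulX i x) = mulX i (mapC B' x) := by
  funext j
  simp [mapC]

theorem deg_baseChange (k : ℕ) :
    Deg B' r m k = Submodule.span B' (mapC B' '' (Deg B r m k : Set (Cover B r m))) := by
  induction k with
  | zero =>
    refine le_antisymm ?_ (Submodule.span_le.2 ?_)
    · rintro _ ⟨c, rfl⟩
      rw [pi_eq_sum_univ c, map_sum]
      refine Submodule.sum_mem _ fun j _ => ?_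
      rw [map_smul]
      refine Submodule.smul_mem _ _ (Submodule.subset_span ⟨_, ⟨fun j' => if j = j' then 1 else 0, rfl⟩, ?_⟩)
      funext j'
      by_cases h : j = j' <;> simp [mapC, h]
    · rintro _ ⟨_, ⟨c, rfl⟩, rfl⟩
      exact ⟨fun j => algebraMap B B' (c j), funext fun j => (MvPolynomial.map_C (algebraMap B B') (c j)).symm⟩
  | succ k ih =>
    rw [Deg, Deg, ih]
    refine le_antisymm (iSup_le fun i => ?_) (Submodule.span_le.2 ?_)
    · rw [Submodule.map_span, Submodule.span_le]
      rintro _ ⟨_, ⟨x, hx, rfl⟩, rfl⟩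
      exact Submodule.subset_span ⟨_, Submodule.mem_iSup_of_mem i ⟨x, hx, rfl⟩, mapC_mulX B' i x⟩
    · rintro _ ⟨x, hx, rfl⟩
      refine Submodule.iSup_induction _ (motive := fun x => mapC B' x ∈ _) hx ?_ ?_ ?_
      · rintro i _ ⟨y, hy, rfl⟩
        rw [mapC_mulX]
        exact Submodule.mem_iSup_of_mem i ⟨_, Submodule.subset_span ⟨y, hy, rfl⟩, rfl⟩
      · rw [map_zero]; exact zero_mem _
      · exact fun a b ha hb => by rw [map_add]; exact add_mem ha hb

/-- Bounds pass to base changes for which the pieces commute. -/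
theorem bound_baseChange (hg : Ideal.span (Set.range g) = J) (he : Submodule.span B (Set.range e) = ⊤)
    (hbc : ∀ k, Function.Bijective (bcMap J M B' k)) {n : ℕ} (hb : Bound g e J n) :
    Bound (fun i => algebraMap B B' (g i)) (fun j => (1 : B') ⊗ₜ[B] e j) (J.map (algebraMap B B')) n := by
  let g' : Fin r → B' := fun i => algebraMap B B' (g i)
  let e' : Fin m → B' ⊗[B] M := fun j => (1 : B') ⊗ₜ[B] e j
  let J' := J.map (algebraMap B B')
  have hv : ∀ x : Cover B r m, val g' e' (mapC B' x) = (1 : B') ⊗ₜ[B] val g e x := fun x =>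
    val_mapC g e B' (TensorProduct.mk B B' M 1) x
  have hmem : ∀ k, ∀ x ∈ Rel g e J k, mapC B' x ∈ Rel g' e' J' k := fun k x hx =>
    ⟨by rw [deg_baseChange (B := B) B']; exact Submodule.subset_span ⟨x, hx.1, rfl⟩, by
      show val g' e' (mapC B' x) ∈ J' ^ (k + 1) • (⊤ : Submodule B' (B' ⊗[B] M))
      rw [hv]
      exact tmul_mem J M B' (k + 1) hx.2⟩
  have hle : ∀ k, Rel g' e' J' k ≤ Submodule.span B' (mapC B' '' (Rel g e J k : Set (Cover B r m))) := by
    intro k x' hx'
    let f : ↥(Deg B r m k) →ₗ[B] Piece J M k := (Submodule.mkQ _).comp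
      (((val g e).comp (Deg B r m k).subtype).codRestrict (J ^ k • ⊤) fun x => by
        rw [← map_val g e J hg he k]; exact ⟨x, x.2, rfl⟩)
    have hf : Function.Surjective f := fun z => by
      obtain ⟨⟨y, hy⟩, rfl⟩ := Submodule.mkQ_surjective _ z
      rw [← map_val g e J hg he k] at hy
      obtain ⟨x, hx, rfl⟩ := hy
      exact ⟨⟨x, hx⟩, rfl⟩
    let Ψ : B' ⊗[B] ↥(Deg B r m k) →ₗ[B'] Cover B' r m :=
      LinearMap.liftBaseChange B' ((mapC B').comp (Deg B r m k).subtype)
    obtain ⟨ξ, rfl⟩ : x' ∈ LinearMap.range Ψ := by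
      rw [LinearMap.range_liftBaseChange, LinearMap.range_comp, Submodule.range_subtype]
      have := hx'.1
      rwa [deg_baseChange (B := B) B'] at this
    have hsq : ∀ ξ : B' ⊗[B] ↥(Deg B r m k), ∀ hm : val g' e' (Ψ ξ) ∈ J' ^ k • (⊤ : Submodule B' (B' ⊗[B] M)),
        bcMap J M B' k (f.lTensor B' ξ) = Submodule.Quotient.mk ⟨_, hm⟩ := by
      intro ξ
      induction ξ using TensorProduct.induction_on with
      | zero =>
        intro _
        simp only [map_zero]
        exact ((Submodule.Quotient.mk_eq_zero _).2 (zero_mem _)).symm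
      | tmul b x =>
        intro hm
        show b • pieceMap J M B' k (f x) = _
        show Submodule.Quotient.mk (b • (⟨(1 : B') ⊗ₜ[B] val g e x, tmul_mem J M B' k (map_val g e J hg he k ▸ ⟨x, x.2, rfl⟩)⟩ : ↥(J' ^ k • (⊤ : Submodule B' (B' ⊗[B] M))))) = _
        congr 1
        apply Subtype.ext
        show b • ((1 : B') ⊗ₜ[B] val g e x) = val g' e' (Ψ (b ⊗ₜ x))
        rw [LinearMap.liftBaseChange_tmul, map_smul, ← hv]
        rfl
      | add a b ha hb =>
        intro hm
        have hva : ∀ η, val g' e' (Ψ η) ∈ J' ^ k • (⊤ : Submodule B' (B' ⊗[B] M)) := fun η => by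
          rw [← map_val g' e' J' (by rw [show Set.range g' = algebraMap B B' '' Set.range g from (Set.range_comp _ _), ← Ideal.map_span, hg])
            (by
              have := congrArg (Submodule.baseChange B') he
              rw [Submodule.baseChange_span, Submodule.baseChange_top] at this
              rw [← this, ← Set.range_comp]; rfl) k]
          refine ⟨_, ?_, rfl⟩
          rw [deg_baseChange (B := B) B']
          have : Ψ η ∈ LinearMap.range Ψ := ⟨η, rfl⟩
          rwa [LinearMap.range_liftBaseChange, LinearMap.range_comp, Submodule.range_subtype] at this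
        rw [map_add, map_add, ha (hva a), hb (hva b), ← Submodule.Quotient.mk_add]
        congr 1
        exact Subtype.ext (by simp)
    have h0 : f.lTensor B' ξ = 0 := (hbc k).1 (by
      rw [map_zero, hsq ξ (Submodule.smul_mono_left (Ideal.pow_le_pow_right k.le_succ) hx'.2),
        Submodule.Quotient.mk_eq_zero]
      exact hx'.2)
    have hex : Function.Exact (f.ker.subtype : _ →ₗ[B] _) f := LinearMap.exact_subtype_ker_map f
    obtain ⟨η, rfl⟩ := (lTensor_exact (R := B) (M := ↥f.ker) (N := ↥(Deg B r m k)) (P := Piece J M k) B'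
      (f := f.ker.subtype) (g := f) hex hf ξ).1 h0
    clear h0 hx'
    induction η using TensorProduct.induction_on with
    | zero => simp
    | tmul b x =>
      rw [LinearMap.lTensor_tmul, LinearMap.liftBaseChange_tmul]
      refine Submodule.smul_mem _ _ (Submodule.subset_span ⟨x.1.1, ⟨x.1.2, ?_⟩, rfl⟩)
      exact (Submodule.Quotient.mk_eq_zero (Submodule.comap (J ^ k • (⊤ : Submodule B M)).subtype (J ^ (k + 1) • ⊤))).1 (LinearMap.mem_ker.1 x.2)
    | add a b ha hb => rw [map_add, map_add]; exact add_mem ha hb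
  intro k hk
  refine (hle (k + 1)).trans (Submodule.span_le.2 ?_)
  rintro _ ⟨x, hx, rfl⟩
  refine Submodule.iSup_induction _ (motive := fun x => mapC B' x ∈ ⨆ i, (Rel g' e' J' k).map (mulX i)) (hb k hk hx) ?_ ?_ ?_
  · rintro i _ ⟨y, hy, rfl⟩
    rw [mapC_mulX]
    exact Submodule.mem_iSup_of_mem i ⟨_, hmem k y hy, rfl⟩
  · rw [map_zero]; exact zero_mem _
  · exact fun a b ha hb => by rw [map_add]; exact add_mem ha hb

end BaseChange

/-- Bounds transfer along isomorphisms of modules. -/
theorem bound_congr {M' : Type u} [AddCommGroup M'] [Module B M'] (E : M ≃ₗ[B] M') (e' : Fin m → M')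
    (he : ∀ j, E (e j) = e' j) {n : ℕ} (hb : Bound g e J n) : Bound g e' J n := by
  have hval : ∀ x, val g e' x = E (val g e x) := fun x => by simp [val_apply, he]
  have hrel : ∀ k, Rel g e' J k = Rel g e J k := fun k => by
    ext x
    simp only [Rel, Submodule.mem_inf, Submodule.mem_comap, hval]
    rw [← map_pow_smul_top J E (k + 1), Submodule.mem_map_equiv, LinearEquiv.symm_apply_apply]
  exact fun k hk => by rw [hrel, hrel]; exact hb k hk

end Groth.Agent.GrStage62
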