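import Groth.Agent.GrStage62.Stage
import Groth.Agent.FlatStage64.Main
import Groth.Agent.GrFlat52.Main
import Groth.Agent.WE24.TorDim

/-! Flatness of all truncations descends to a finitely generated stage (EGA IV 11.2.9, Noetherian model). -/

set_option autoImplicit false
set_option linter.style.haveILetI false
universe u

open TensorProduct

attribute [local instance] Algebra.TensorProduct.rightAlgebra

namespace Groth.Agent.GrStage62

open E4O.NormFlat

/-- Pieces are flat if all truncations are. -/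
theorem flat_piece_of_trunc {A B : Type u} [CommRing A] [CommRing B] [Algebra A B] (J : Ideal B) (M : Type u)
    [AddCommGroup M] [Module B M] [Module A M] [IsScalarTower A B M] (h : ∀ k, Module.Flat A (Trunc J M k)) (k : ℕ) :
    Module.Flat A (Piece J M k) := by
  haveI := h k
  haveI := h (k + 1)
  haveI := WE24.flat_ker ((proj J M k).restrictScalars A) (proj_surjective J M k)
  exact Module.Flat.of_linearEquiv ((LinearEquiv.ofInjective _ (toTrunc_injective J M k)).restrictScalars A ≪≫ₗ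
    (LinearEquiv.ofEq _ _ (exact_toTrunc_proj J M k).linearMap_ker_eq.symm).restrictScalars A :
      Piece J M k ≃ₗ[A] LinearMap.ker ((proj J M k).restrictScalars A))

variable {R B₀ : Type u} [CommRing R] [CommRing B₀] [Algebra R B₀]
  (J₀ : Ideal B₀) (M₀ : Type u) [AddCommGroup M₀] [Module B₀ M₀] [Module R M₀] [IsScalarTower R B₀ M₀]
  (A : Type u) [CommRing A] [Algebra R A]

/-- An element of a base change comes from a finitely generated stage. -/
theorem exists_fg_mem_range (c : A ⊗[R] B₀) : ∃ C : Subalgebra R A, C.FG ∧ ∀ D : Subalgebra R A, C ≤ D →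
    c ∈ Set.range (Algebra.TensorProduct.map D.val (AlgHom.id R B₀)) := by
  classical
  induction c using TensorProduct.induction_on with
  | zero => exact ⟨⊥, Subalgebra.fg_bot, fun D _ => ⟨0, map_zero _⟩⟩
  | tmul a b =>
    refine ⟨Algebra.adjoin R {a}, ⟨{a}, by simp⟩, fun D hD => ⟨⟨a, hD (Algebra.subset_adjoin rfl)⟩ ⊗ₜ b, ?_⟩⟩
    rw [Algebra.TensorProduct.map_tmul]
    rfl
  | add x y hx hy =>
    obtain ⟨C₁, h₁, hx⟩ := hx
    obtain ⟨C₂, h₂, hy⟩ := hy
    refine ⟨C₁ ⊔ C₂, h₁.sup h₂, fun D hD => ?_⟩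
    obtain ⟨x', hx'⟩ := hx D (le_sup_left.trans hD)
    obtain ⟨y', hy'⟩ := hy D (le_sup_right.trans hD)
    exact ⟨x' + y', by rw [map_add, hx', hy']⟩

variable [IsNoetherianRing R] [Algebra.FiniteType R B₀] [Module.Finite B₀ M₀]

/-- The finitely many first truncations are flat at a stage. -/
theorem exists_stage_low (hA : ∀ k, Module.Flat A (A ⊗[R] Trunc J₀ M₀ k)) (n : ℕ) :
    ∃ C : Subalgebra R A, C.FG ∧ ∀ D : Subalgebra R A, C ≤ D → ∀ k ≤ n, Module.Flat D (D ⊗[R] Trunc J₀ M₀ k) := by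
  classical
  choose C hC hflat using fun k => FlatStage64.exists_fg_flat (R := R) (B := B₀) (M := Trunc J₀ M₀ k) A (hA k)
  induction n with
  | zero => exact ⟨C 0, hC 0, fun D hD k hk => by rw [Nat.le_zero.1 hk]; exact hflat 0 D hD⟩
  | succ n ih =>
    obtain ⟨C', hC', h'⟩ := ih
    refine ⟨C' ⊔ C (n + 1), hC'.sup (hC _), fun D hD k hk => ?_⟩
    rcases hk.eq_or_lt with rfl | hk
    · exact hflat _ D (le_sup_right.trans hD)
    · exact h' D (le_sup_left.trans hD) k (Nat.lt_succ_iff.1 hk)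

/-- A basic open containing `V(J)` on which the module is flat. -/
theorem exists_flatOnBasic (hA : ∀ k, Module.Flat A (A ⊗[R] Trunc J₀ M₀ k)) :
    ∃ h : A ⊗[R] B₀, h - 1 ∈ J₀.map (algebraMap B₀ (A ⊗[R] B₀)) ∧ FlatMor67.FlatOnBasic M₀ A h := by
  let P := A ⊗[R] B₀
  haveI : Algebra.FinitePresentation R B₀ := Algebra.FinitePresentation.of_finiteType.1 ‹_›
  haveI : IsNoetherianRing B₀ := Algebra.FiniteType.isNoetherianRing R B₀
  haveI : IsScalarTower R B₀ P := IsScalarTower.of_algebraMap_eq fun a => by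
    show algebraMap R A a ⊗ₜ[R] (1 : B₀) = (1 : A) ⊗ₜ[R] algebraMap R B₀ a
    rw [Algebra.algebraMap_eq_smul_one, Algebra.algebraMap_eq_smul_one, TensorProduct.smul_tmul]
  haveI : Module.FinitePresentation B₀ M₀ := Module.finitePresentation_of_finite B₀ M₀
  let M := P ⊗[B₀] M₀
  let J := J₀.map (algebraMap B₀ P)
  have hT : ∀ k, Module.Flat A (Trunc J M k) := fun k =>
    (flat_trunc_pushout_iff (A := R) (A' := A) J₀ M₀ P k).2 (hA k)
  obtain ⟨I, hI⟩ := (PrimeSpectrum.isClosed_iff_zeroLocus_ideal _).1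
    (isClosed_compl_iff.2 (FlatCrit65.isOpen_flat_locus_module (R := A) (S := P) (M := M)))
  have htop : I ⊔ J = ⊤ := by
    by_contra hne
    obtain ⟨q, hq, hle⟩ := Ideal.exists_le_maximal _ hne
    haveI := hq.isPrime
    have h1 : (⟨q, inferInstance⟩ : PrimeSpectrum P) ∈ PrimeSpectrum.zeroLocus (I : Set P) := le_sup_left.trans hle
    rw [← hI] at h1
    exact h1 (GrFlat52.flat_localized J (flat_piece_of_trunc J M hT) q (le_sup_right.trans hle))
  obtain ⟨h, hh, j, hj, hhj⟩ := Submodule.mem_sup.1 (htop ▸ Submodule.mem_top : (1 : P) ∈ I ⊔ J)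
  refine ⟨h, by rw [show h - 1 = -j by rw [← hhj]; ring]; exact neg_mem hj, fun Q _ hQ => ?_⟩
  by_contra hflat
  have h1 : (⟨Q, inferInstance⟩ : PrimeSpectrum P) ∈ PrimeSpectrum.zeroLocus (I : Set P) := by rw [← hI]; exact hflat
  exact hQ (h1 hh)

/-- All truncations are flat at one finitely generated stage. -/
theorem exists_stage (hA : ∀ k, Module.Flat A (A ⊗[R] Trunc J₀ M₀ k)) :
    ∃ (C : Type u) (_ : CommRing C) (_ : Algebra R C), Algebra.FiniteType R C ∧ Nonempty (C →ₐ[R] A) ∧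
      ∀ k, Module.Flat C (C ⊗[R] Trunc J₀ M₀ k) := by
  classical
  haveI : IsNoetherianRing B₀ := Algebra.FiniteType.isNoetherianRing R B₀
  obtain ⟨r, g, hg⟩ := Submodule.fg_iff_exists_fin_generating_family.1 (IsNoetherian.noetherian J₀)
  obtain ⟨m, e, he⟩ := Submodule.fg_iff_exists_fin_generating_family.1 (Module.Finite.fg_top : (⊤ : Submodule B₀ M₀).FG)
  obtain ⟨n, hn⟩ := exists_unifBound (R := R) J₀ M₀ g e hg he
  obtain ⟨C₁, hC₁, hlow⟩ := exists_stage_low J₀ M₀ A hA n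
  obtain ⟨h, hh, hopen⟩ := exists_flatOnBasic J₀ M₀ A hA
  have hgA : Submodule.span (A ⊗[R] B₀) (Set.range fun i => algebraMap B₀ (A ⊗[R] B₀) (g i)) = _ := span_algebraMap hg
  rw [← hgA, Submodule.mem_span_range_iff_exists_fun] at hh
  obtain ⟨c, hc⟩ := hh
  choose Cc hCc hmem using fun i => exists_fg_mem_range A (c i)
  let C₀ : Subalgebra R A := C₁ ⊔ Finset.univ.sup Cc
  have hC₀ : C₀.FG := hC₁.sup (Finset.sup_induction (p := fun C : Subalgebra R A => C.FG) Subalgebra.fg_bot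
    (fun _ h₁ _ h₂ => h₁.sup h₂) fun i _ => hCc i)
  choose c₀ hc₀ using fun i => hmem i C₀ (le_trans (Finset.le_sup (Finset.mem_univ i)) le_sup_right)
  haveI hft₀ : Algebra.FiniteType R C₀ := (Subalgebra.fg_iff_finiteType C₀).1 hC₀
  haveI : IsNoetherianRing C₀ := Algebra.FiniteType.isNoetherianRing R C₀
  let h₀ : C₀ ⊗[R] B₀ := 1 + ∑ i, c₀ i * algebraMap B₀ (C₀ ⊗[R] B₀) (g i)
  have hmap : Algebra.TensorProduct.map (IsScalarTower.toAlgHom R C₀ A) (AlgHom.id R B₀) h₀ = h := by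
    have h' : IsScalarTower.toAlgHom R C₀ A = C₀.val := rfl
    rw [h', map_add, map_one, map_sum, eq_comm, ← sub_eq_iff_eq_add', ← hc]
    refine Finset.sum_congr rfl fun i _ => ?_
    rw [map_mul, hc₀, smul_eq_mul]
    congr 1
  have hflat := (FlatMor67.flatOnBasic_map_iff (M₀ := M₀) (A := A) h₀).1 (hmap ▸ hopen)
  haveI : Algebra.FiniteType (C₀ ⊗[R] B₀) (Localization.Away h₀) :=
    IsLocalization.finiteType_of_monoid_fg (Submonoid.powers h₀) _
  haveI : Algebra.FiniteType C₀ (Localization.Away h₀) :=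
    Algebra.FiniteType.trans (S := C₀ ⊗[R] B₀) inferInstance inferInstance
  obtain ⟨C', hC', hflat'⟩ := FlatStage64.exists_fg_flat (R := C₀) (B := Localization.Away h₀)
    (M := Localization.Away h₀ ⊗[B₀] M₀) A hflat
  haveI : Algebra.FiniteType C₀ C' := (Subalgebra.fg_iff_finiteType C').1 hC'
  haveI : Algebra.FiniteType R C' := Algebra.FiniteType.trans hft₀ inferInstance
  haveI : IsNoetherianRing C' := Algebra.FiniteType.isNoetherianRing R C'
  have hle : C₁ ≤ C'.restrictScalars R := fun x hx =>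
    C'.algebraMap_mem (⟨x, (le_sup_left : C₁ ≤ C₀) hx⟩ : C₀)
  let φ : C₀ ⊗[R] B₀ →ₐ[R] C' ⊗[R] B₀ :=
    Algebra.TensorProduct.map (IsScalarTower.toAlgHom R C₀ C') (AlgHom.id R B₀)
  have hh' : φ h₀ - 1 ∈ J₀.map (algebraMap B₀ (C' ⊗[R] B₀)) := by
    have key : ∀ x : C₀ ⊗[R] B₀, φ (1 + x) - 1 = φ x := fun x =>
      sub_eq_of_eq_add ((map_add φ 1 x).trans ((congrArg (· + φ x) (map_one φ)).trans (add_comm _ _)))
    rw [key, map_sum]
    refine Ideal.sum_mem _ fun i _ => ?_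
    rw [map_mul]
    refine Ideal.mul_mem_left _ _ ?_
    rw [show φ (algebraMap B₀ (C₀ ⊗[R] B₀) (g i)) = algebraMap B₀ (C' ⊗[R] B₀) (g i) by
      show φ ((1 : C₀) ⊗ₜ[R] g i) = (1 : C') ⊗ₜ[R] g i
      rw [Algebra.TensorProduct.map_tmul, map_one]; rfl]
    exact Ideal.mem_map_of_mem _ (hg ▸ Ideal.subset_span ⟨i, rfl⟩)
  exact ⟨C', inferInstance, inferInstance, inferInstance, ⟨(C'.restrictScalars R).val⟩,
    flat_trunc_of_stage J₀ M₀ g e C' hg he hn (fun k hk => hlow (C'.restrictScalars R) hle k hk) (φ h₀) hh'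
      ((FlatMor67.flatOnBasic_map_iff (M₀ := M₀) (A := C') h₀).2 (hflat' C' le_rfl))⟩

end Groth.Agent.GrStage62
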