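import Groth.Agent.GrStage62.Bound
import Groth.Agent.FlatCrit65.Injective
import Groth.Agent.FlatMor68.Pinch

/-! Flatness of all truncations from finitely many, given a bound on fibre relations (EGA IV 11.2.9). -/

set_option autoImplicit false
set_option linter.style.haveILetI false
universe u

open TensorProduct MvPolynomial

namespace Groth.Agent.GrStage62

open E4O.NormFlat

variable {A B : Type u} [CommRing A] [CommRing B] [Algebra A B] {M : Type u} [AddCommGroup M] [Module B M]
  [Module A M] [IsScalarTower A B M] (J : Ideal B) (m₀ : Ideal A)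

/-- The pieces meet `m M` in `m` times themselves up to the next piece, in degrees with flat truncation. -/
theorem inter_le_of_flat (k : ℕ) (hT : Module.Flat A (Trunc J M k)) :
    J ^ k • (⊤ : Submodule B M) ⊓ (m₀.map (algebraMap A B)) • ⊤ ≤
      (m₀.map (algebraMap A B)) • (J ^ k • (⊤ : Submodule B M)) ⊔ J ^ (k + 1) • ⊤ := by
  intro z hz
  let z' : Piece J M k := Submodule.Quotient.mk ⟨z, hz.1⟩
  have hinj := FlatMor68.Pinch.lTensor_injective_of_flat_quotient (L := A ⧸ m₀) ((toTrunc J M k).restrictScalars A)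
    ((proj J M k).restrictScalars A) (toTrunc_injective J M k) (proj_surjective J M k) (exact_toTrunc_proj J M k)
  have h1 : z' ∈ m₀ • (⊤ : Submodule A (Piece J M k)) := by
    rw [← FlatCrit65.one_tmul_eq_zero_iff]
    apply hinj
    rw [map_zero, LinearMap.lTensor_tmul, FlatCrit65.one_tmul_eq_zero_iff]
    have h2 : (Submodule.mkQ (J ^ (k + 1) • (⊤ : Submodule B M))).restrictScalars A z ∈
        m₀ • (⊤ : Submodule A (Trunc J M (k + 1))) := by
      have h3 : z ∈ m₀ • (⊤ : Submodule A M) := by
        rw [← Submodule.restrictScalars_top A B M, ← Ideal.smul_restrictScalars]; exact hz.2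
      have := Submodule.mem_map_of_mem (f := (Submodule.mkQ (J ^ (k + 1) • (⊤ : Submodule B M))).restrictScalars A) h3
      rw [Submodule.map_smul''] at this
      exact Submodule.smul_mono le_rfl le_top this
    exact h2
  have key : ∀ w ∈ m₀ • (⊤ : Submodule A (Piece J M k)), ∀ (v : ↥(J ^ k • (⊤ : Submodule B M))),
      Submodule.Quotient.mk v = w → (v : M) ∈
        (m₀.map (algebraMap A B)) • (J ^ k • (⊤ : Submodule B M)) ⊔ J ^ (k + 1) • ⊤ := by
    intro w hw
    refine Submodule.smul_induction_on hw (fun a ha u _ v hv => ?_) (fun u₁ u₂ h₁ h₂ v hv => ?_)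
    · obtain ⟨u, rfl⟩ := Submodule.Quotient.mk_surjective _ u
      have hd : v - a • u ∈ Submodule.comap (J ^ k • (⊤ : Submodule B M)).subtype (J ^ (k + 1) • ⊤) :=
        (Submodule.Quotient.eq _).1 (hv.trans (Submodule.Quotient.mk_smul _ a u).symm)
      rw [← sub_add_cancel (v : M) (a • (u : M))]
      refine add_mem (Submodule.mem_sup_right hd) (Submodule.mem_sup_left ?_)
      rw [← algebraMap_smul B a (u : M)]
      exact Submodule.smul_mem_smul (Ideal.mem_map_of_mem _ ha) u.2
    · obtain ⟨v₁, rfl⟩ := Submodule.Quotient.mk_surjective _ u₁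
      have e := h₁ v₁ rfl
      have e₂ := h₂ (v - v₁) (by rw [Submodule.Quotient.mk_sub, hv, add_sub_cancel_left])
      have := add_mem e e₂
      simpa using this
  exact key z' h1 ⟨z, hz.1⟩ rfl

variable {r m : ℕ} (g : Fin r → B) (e : Fin m → M)
variable {B' : Type u} [CommRing B'] [Algebra B B'] {M' : Type u} [AddCommGroup M'] [Module B' M'] [Module B M']
  [IsScalarTower B B' M'] (h : M →ₗ[B] M')

/-- The inclusion propagates from degree `n` on. -/
theorem inter_le_of_bound (hg : Ideal.span (Set.range g) = J) (he : Submodule.span B (Set.range e) = ⊤)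
    (hsurj : Function.Surjective (algebraMap B B')) (hsurjM : Function.Surjective h)
    (hker : RingHom.ker (algebraMap B B') = m₀.map (algebraMap A B))
    (hkerM : ∀ z, h z = 0 ↔ z ∈ (m₀.map (algebraMap A B)) • (⊤ : Submodule B M))
    {n : ℕ} (hb : Bound (fun i => algebraMap B B' (g i)) (fun j => h (e j)) (J.map (algebraMap B B')) n)
    (hlow : ∀ k ≤ n, Module.Flat A (Trunc J M k)) (k : ℕ) :
    J ^ k • (⊤ : Submodule B M) ⊓ (m₀.map (algebraMap A B)) • ⊤ ≤
      (m₀.map (algebraMap A B)) • (J ^ k • (⊤ : Submodule B M)) ⊔ J ^ (k + 1) • ⊤ := by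
  induction k with
  | zero => exact inter_le_of_flat J m₀ 0 (hlow 0 (Nat.zero_le n))
  | succ k ih =>
    rcases Nat.lt_or_ge k n with hk | hk
    · exact inter_le_of_flat J m₀ (k + 1) (hlow (k + 1) hk)
    set I := m₀.map (algebraMap A B) with hI
    rintro z ⟨hz1, hz2⟩
    rw [SetLike.mem_coe, ← map_val g e J hg he (k + 1)] at hz1
    obtain ⟨x, hx, rfl⟩ := hz1
    have hval : ∀ y : Cover B r m, val (fun i => algebraMap B B' (g i)) (fun j => h (e j)) (mapC B' y) = h (val g e y) :=
      fun y => val_mapC g e B' h y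
    have hxrel : mapC B' x ∈ Rel (fun i => algebraMap B B' (g i)) (fun j => h (e j)) (J.map (algebraMap B B')) (k + 1) := by
      refine ⟨by rw [deg_baseChange (B := B) B']; exact Submodule.subset_span ⟨x, hx, rfl⟩, ?_⟩
      show val _ _ (mapC B' x) ∈ J.map (algebraMap B B') ^ (k + 1 + 1) • (⊤ : Submodule B' M')
      rw [hval, (hkerM _).2 hz2]
      exact zero_mem _
    have hlift : ∀ y' ∈ Deg B' r m k, ∃ y ∈ Deg B r m k, mapC B' y = y' := by
      intro y' hy'
      rw [deg_baseChange (B := B) B'] at hy'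
      induction hy' using Submodule.span_induction with
      | mem y hy => exact hy
      | zero => exact ⟨0, zero_mem _, map_zero _⟩
      | add a b _ _ ha hb' =>
        obtain ⟨ya, hya, rfl⟩ := ha
        obtain ⟨yb, hyb, rfl⟩ := hb'
        exact ⟨ya + yb, add_mem hya hyb, map_add _ _ _⟩
      | smul c a _ ha =>
        obtain ⟨c, rfl⟩ := hsurj c
        obtain ⟨ya, hya, rfl⟩ := ha
        exact ⟨c • ya, Submodule.smul_mem _ c hya, by rw [map_smul, algebraMap_smul]⟩
    have hval' : ∀ y ∈ Deg B r m k, val g e y ∈ J ^ k • (⊤ : Submodule B M) := fun y hy => by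
      rw [← map_val g e J hg he k]; exact ⟨y, hy, rfl⟩
    have hcoef : ∀ (d : ℕ) (y : Cover B r m), y ∈ Deg B r m d → mapC B' y = 0 →
        val g e y ∈ I • (J ^ d • (⊤ : Submodule B M)) := by
      intro d y hy h0
      rw [val_apply, ← Submodule.mul_smul]
      refine Submodule.sum_mem _ fun j _ => Submodule.smul_mem_smul ?_ trivial
      rw [(y j).as_sum, map_sum]
      refine Submodule.sum_mem _ fun s hs => ?_
      rw [aeval_monomial]
      refine Ideal.mul_mem_mul ?_ ?_
      · rw [Algebra.algebraMap_self, RingHom.id_apply, ← hker, RingHom.mem_ker]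
        have h5 := congrArg (fun q => coeff s q) (congrFun h0 j)
        simpa [mapC, coeff_map] using h5
      · have hdeg : ∑ i ∈ s.support, s i = d := by
          have := isHomogeneous_of_mem hy j (mem_support_iff.1 hs)
          simpa [Finsupp.weight_apply, Finsupp.sum] using this
        rw [← hdeg, ← Finset.prod_pow_eq_pow_sum]
        exact Ideal.prod_mem_prod fun i _ => Ideal.pow_mem_pow (hg ▸ Ideal.subset_span ⟨i, rfl⟩) _
    -- lift the decomposition
    obtain ⟨y, hy, hxy⟩ : ∃ y : Cover B r m, y ∈ Deg B r m (k + 1) ∧ mapC B' y = mapC B' x ∧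
        val g e y ∈ I • (J ^ (k + 1) • (⊤ : Submodule B M)) ⊔ J ^ (k + 1 + 1) • ⊤ := by
      suffices H : ∀ w ∈ ⨆ i, (Rel (fun i => algebraMap B B' (g i)) (fun j => h (e j)) (J.map (algebraMap B B')) k).map (mulX i),
          ∃ y : Cover B r m, y ∈ Deg B r m (k + 1) ∧ mapC B' y = w ∧
            val g e y ∈ I • (J ^ (k + 1) • (⊤ : Submodule B M)) ⊔ J ^ (k + 1 + 1) • ⊤ from
        H _ (hb k hk hxrel)
      intro w hw
      refine Submodule.iSup_induction _ (motive := fun w => ∃ y : Cover B r m, y ∈ Deg B r m (k + 1) ∧ mapC B' y = w ∧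
        val g e y ∈ I • (J ^ (k + 1) • (⊤ : Submodule B M)) ⊔ J ^ (k + 1 + 1) • ⊤) hw ?_ ?_ ?_
      · rintro i _ ⟨u', hu', rfl⟩
        obtain ⟨u, hu, rfl⟩ := hlift u' hu'.1
        refine ⟨mulX i u, Submodule.mem_iSup_of_mem i ⟨u, hu, rfl⟩, mapC_mulX B' i u, ?_⟩
        have h1 : h (val g e u) ∈ J.map (algebraMap B B') ^ (k + 1) • (⊤ : Submodule B' M') := by
          rw [← hval]; exact hu'.2
        obtain ⟨v, hv, hvd⟩ : ∃ v ∈ J ^ (k + 1) • (⊤ : Submodule B M), val g e u - v ∈ I • (⊤ : Submodule B M) := by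
          rw [← Ideal.map_pow, ← Submodule.restrictScalars_mem B, Ideal.smul_restrictScalars, Submodule.restrictScalars_top,
            ← LinearMap.range_eq_top.2 hsurjM, LinearMap.range_eq_map, ← Submodule.map_smul''] at h1
          obtain ⟨v, hv, hve⟩ := h1
          exact ⟨v, hv, (hkerM _).1 (by rw [map_sub, hve, sub_self])⟩
        have h2 : val g e u - v ∈ J ^ k • (⊤ : Submodule B M) :=
          sub_mem (hval' u hu) (Submodule.smul_mono_left (Ideal.pow_le_pow_right k.le_succ) hv)
        have h3 : val g e u ∈ I • (J ^ k • (⊤ : Submodule B M)) ⊔ J ^ (k + 1) • ⊤ := by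
          rw [← sub_add_cancel (val g e u) v]
          exact add_mem (ih ⟨h2, hvd⟩) (Submodule.mem_sup_right hv)
        rw [val_mulX]
        have h4 := Submodule.smul_mem_smul (I := J) (hg ▸ Ideal.subset_span ⟨i, rfl⟩ : g i ∈ J) h3
        rw [Submodule.smul_sup, ← Submodule.mul_smul, ← Submodule.mul_smul, mul_comm J I, mul_assoc, ← pow_succ',
          ← Submodule.mul_smul, ← pow_succ', Submodule.mul_smul] at h4
        exact h4
      · exact ⟨0, zero_mem _, map_zero _, by rw [map_zero]; exact zero_mem _⟩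
      · rintro a b ⟨ya, h1, rfl, h2⟩ ⟨yb, h3, rfl, h4⟩
        exact ⟨ya + yb, add_mem h1 h3, map_add _ _ _, by rw [map_add]; exact add_mem h2 h4⟩
    rw [← sub_add_cancel (val g e x) (val g e y), ← map_sub]
    refine add_mem (Submodule.mem_sup_left (hcoef (k + 1) _ (sub_mem hx hy) ?_)) hxy.2
    rw [map_sub, hxy.1, sub_self]

-- Krull: elements in all the truncations are killed near `V(J)`.
omit [Module A M] [IsScalarTower A B M] in
theorem exists_smul_mem_of_inter_le [IsNoetherianRing B] [Module.Finite B M] {k : ℕ} (q : Ideal B) [q.IsPrime] (hJq : J ≤ q)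
    (hinter : ∀ k, J ^ k • (⊤ : Submodule B M) ⊓ (m₀.map (algebraMap A B)) • ⊤ ≤
      (m₀.map (algebraMap A B)) • (J ^ k • (⊤ : Submodule B M)) ⊔ J ^ (k + 1) • ⊤)
    (z : M) (hz : z ∈ J ^ k • (⊤ : Submodule B M)) (hzI : z ∈ (m₀.map (algebraMap A B)) • (⊤ : Submodule B M)) :
    ∃ t ∉ q, t • z ∈ (m₀.map (algebraMap A B)) • (J ^ k • (⊤ : Submodule B M)) := by
  set I := m₀.map (algebraMap A B)
  let P : Submodule B M := J ^ k • ⊤
  have hdeep : ∀ r, z ∈ I • P ⊔ J ^ (k + r) • ⊤ := by
    intro r
    induction r with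
    | zero => exact Submodule.mem_sup_right hz
    | succ r ih =>
      obtain ⟨a, ha, b, hb, hab⟩ := Submodule.mem_sup.1 ih
      have hbI : b ∈ I • (⊤ : Submodule B M) := by
        rw [show b = z - a by rw [← hab, add_sub_cancel_left]]
        exact sub_mem hzI (Submodule.smul_mono le_rfl le_top ha)
      obtain ⟨c, hc, d, hd, hcd⟩ := Submodule.mem_sup.1 (hinter (k + r) ⟨hb, hbI⟩)
      rw [← hab, ← hcd, show a + (c + d) = (a + c) + d from (add_assoc a c d).symm]
      refine Submodule.add_mem_sup (add_mem ha ?_) hd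
      exact Submodule.smul_mono le_rfl (Submodule.smul_mono_left (Ideal.pow_le_pow_right (Nat.le_add_right k r))) hc
  let Q := ↥P ⧸ (I • (⊤ : Submodule B ↥P))
  let π : ↥P →ₗ[B] Q := Submodule.mkQ _
  have hQ : π ⟨z, hz⟩ ∈ (⨅ r, J ^ r • ⊤ : Submodule B Q) := (Submodule.mem_iInf _).2 fun r => by
    obtain ⟨a, ha, b, hb, hab⟩ := Submodule.mem_sup.1 (hdeep r)
    rw [pow_add, mul_comm, Submodule.mul_smul] at hb
    have hb' : b ∈ (J ^ r • (⊤ : Submodule B ↥P)).map P.subtype := by
      rw [Submodule.map_smul'', Submodule.map_top, Submodule.range_subtype]; exact hb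
    have ha' : a ∈ (I • (⊤ : Submodule B ↥P)).map P.subtype := by
      rw [Submodule.map_smul'', Submodule.map_top, Submodule.range_subtype]; exact ha
    obtain ⟨b', hb', rfl⟩ := hb'
    obtain ⟨a', ha', rfl⟩ := ha'
    rw [show (⟨z, hz⟩ : ↥P) = a' + b' from Subtype.ext hab.symm, map_add,
      show π a' = 0 from (Submodule.Quotient.mk_eq_zero _).2 ha', zero_add]
    have := Submodule.mem_map_of_mem (f := π) hb'
    rw [Submodule.map_smul''] at this
    exact Submodule.smul_mono le_rfl le_top this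
  obtain ⟨⟨c, hc⟩, hcz⟩ := (Ideal.mem_iInf_smul_pow_eq_bot_iff J _).1 hQ
  refine ⟨1 - c, fun hmem => ‹q.IsPrime›.ne_top ((Ideal.eq_top_iff_one q).2 ?_), ?_⟩
  · simpa using add_mem hmem (hJq hc)
  · have h0 : π ((1 - c) • ⟨z, hz⟩) = 0 := by rw [map_smul, sub_smul, one_smul]; exact sub_eq_zero.2 hcz.symm
    have := Submodule.mem_map_of_mem (f := P.subtype) ((Submodule.Quotient.mk_eq_zero _).1 h0)
    rwa [Submodule.map_smul'', Submodule.map_top, Submodule.range_subtype] at this

end Groth.Agent.GrStage62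

namespace Groth.Agent.GrStage62

open E4O.NormFlat

variable {A B : Type u} [CommRing A] [CommRing B] [Algebra A B]

theorem mk_mem_smul_top_iff {X : Type u} [AddCommGroup X] [Module B X] [Module A X] [IsScalarTower A B X]
    (m₀ : Ideal A) (q : Ideal B) [q.IsPrime] (x : X) (s : q.primeCompl) :
    (LocalizedModule.mk x s ∈ m₀ • (⊤ : Submodule A (LocalizedModule q.primeCompl X))) ↔
      ∃ t : q.primeCompl, t • x ∈ m₀ • (⊤ : Submodule A X) := by
  have hs : ∀ (b : B) (y : X), y ∈ m₀ • (⊤ : Submodule A X) → b • y ∈ m₀ • (⊤ : Submodule A X) := by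
    intro b y hy
    refine Submodule.smul_induction_on hy (fun a ha y _ => ?_) fun y₁ y₂ h₁ h₂ => ?_
    · rw [smul_comm]; exact Submodule.smul_mem_smul ha trivial
    · rw [smul_add]; exact add_mem h₁ h₂
  constructor
  · intro h
    obtain ⟨y, hy, u, e⟩ : ∃ y ∈ m₀ • (⊤ : Submodule A X), ∃ u : q.primeCompl,
        LocalizedModule.mk x s = LocalizedModule.mk y u := by
      refine Submodule.smul_induction_on (p := fun w => ∃ y ∈ m₀ • (⊤ : Submodule A X), ∃ u : q.primeCompl,
        w = LocalizedModule.mk y u) h ?_ ?_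
      · intro a ha w _
        induction w using LocalizedModule.induction_on with
        | _ w u => exact ⟨a • w, Submodule.smul_mem_smul ha trivial, u, by
            rw [← algebraMap_smul B a (LocalizedModule.mk w u), LocalizedModule.smul'_mk, algebraMap_smul]⟩
      · rintro _ _ ⟨y₁, h₁, u₁, rfl⟩ ⟨y₂, h₂, u₂, rfl⟩
        exact ⟨_, add_mem (hs _ _ h₁) (hs _ _ h₂), _, LocalizedModule.mk_add_mk ..⟩
    obtain ⟨c, hc⟩ := LocalizedModule.mk_eq.1 e
    refine ⟨c * u, ?_⟩
    rw [mul_smul, hc, Submonoid.smul_def, Submonoid.smul_def]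
    exact hs _ _ (hs _ _ hy)
  · rintro ⟨t, ht⟩
    rw [show LocalizedModule.mk x s = LocalizedModule.mk (t • x) (t * s) from
      LocalizedModule.mk_eq.2 ⟨1, by simp only [← mul_smul, mul_comm]⟩]
    generalize t * s = u
    refine Submodule.smul_induction_on (p := fun y => LocalizedModule.mk y u ∈ m₀ • (⊤ : Submodule A (LocalizedModule q.primeCompl X))) ht
      (fun a ha y _ => ?_) fun y₁ y₂ h₁ h₂ => ?_
    · rw [← algebraMap_smul B a y, ← LocalizedModule.smul'_mk, algebraMap_smul]
      exact Submodule.smul_mem_smul ha trivial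
    · have := add_mem h₁ h₂
      rwa [LocalizedModule.mk_add_mk, ← smul_add,
        show LocalizedModule.mk (u • (y₁ + y₂)) (u * u) = LocalizedModule.mk (y₁ + y₂) u from
          LocalizedModule.mk_eq.2 ⟨1, by simp [mul_smul]⟩] at this

variable {M : Type u} [AddCommGroup M] [Module B M] [Module A M] [IsScalarTower A B M]
  [IsLocalRing A] [IsNoetherianRing A] [IsNoetherianRing B] [Module.Finite B M]

/-- Over a local base: truncations are flat at the points of `V(J)` over the closed point. -/
theorem flat_trunc_localized (J : Ideal B) {r m : ℕ} (g : Fin r → B) (e : Fin m → M)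
    (hg : Ideal.span (Set.range g) = J) (he : Submodule.span B (Set.range e) = ⊤)
    {B' : Type u} [CommRing B'] [Algebra B B'] {M' : Type u} [AddCommGroup M'] [Module B' M'] [Module B M']
    [IsScalarTower B B' M'] (h : M →ₗ[B] M')
    (hsurj : Function.Surjective (algebraMap B B')) (hsurjM : Function.Surjective h)
    (hker : RingHom.ker (algebraMap B B') = (IsLocalRing.maximalIdeal A).map (algebraMap A B))
    (hkerM : ∀ z, h z = 0 ↔ z ∈ ((IsLocalRing.maximalIdeal A).map (algebraMap A B)) • (⊤ : Submodule B M))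
    {n : ℕ} (hb : Bound (fun i => algebraMap B B' (g i)) (fun j => h (e j)) (J.map (algebraMap B B')) n)
    (hlow : ∀ k ≤ n, Module.Flat A (Trunc J M k))
    (q : Ideal B) [q.IsPrime] (hJq : J ≤ q) (hmq : (IsLocalRing.maximalIdeal A).map (algebraMap A B) ≤ q)
    (hM : Module.Flat A (LocalizedModule q.primeCompl M)) (k : ℕ) :
    Module.Flat A (LocalizedModule q.primeCompl (Trunc J M k)) := by
  set m₀ := IsLocalRing.maximalIdeal A
  have hinter := inter_le_of_bound J m₀ g e h hg he hsurj hsurjM hker hkerM hb hlow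
  let P : Submodule B M := J ^ k • ⊤
  let f := LocalizedModule.map q.primeCompl P.subtype
  let π := LocalizedModule.map q.primeCompl P.mkQ
  have hex : Function.Exact f π := LocalizedModule.map_exact q.primeCompl P.subtype P.mkQ
    (LinearMap.exact_subtype_mkQ P)
  have hπ : Function.Surjective π := LocalizedModule.map_surjective q.primeCompl P.mkQ P.mkQ_surjective
  let fA := f.restrictScalars A
  let S := Localization.AtPrime q
  have hmax : m₀.map (algebraMap A S) ≤ Ideal.jacobson ⊥ := by
    rw [IsLocalRing.jacobson_eq_maximalIdeal ⊥ bot_ne_top, Ideal.map_le_iff_le_comap]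
    intro a ha
    rw [Ideal.mem_comap, IsScalarTower.algebraMap_apply A B S]
    exact (IsLocalization.AtPrime.to_map_mem_maximal_iff S q _).mpr (hmq (Ideal.mem_map_of_mem _ ha))
  have hinj : Function.Injective (fA.lTensor (A ⧸ m₀)) := by
    refine (injective_iff_map_eq_zero _).2 fun ξ hξ => ?_
    obtain ⟨w, rfl⟩ : ∃ w, (1 : A ⧸ m₀) ⊗ₜ[A] w = ξ :=
      TensorProduct.mk_surjective A (LocalizedModule q.primeCompl ↥P) (A ⧸ m₀) Ideal.Quotient.mk_surjective ξ
    rw [LinearMap.lTensor_tmul, FlatCrit65.one_tmul_eq_zero_iff] at hξ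
    rw [FlatCrit65.one_tmul_eq_zero_iff]
    induction w using LocalizedModule.induction_on with
    | _ z s =>
      have h1 : LocalizedModule.mk (z : M) s ∈ m₀ • (⊤ : Submodule A (LocalizedModule q.primeCompl M)) := by
        simpa [fA, f, LocalizedModule.map_mk] using hξ
      obtain ⟨t, ht⟩ := (mk_mem_smul_top_iff m₀ q _ s).1 h1
      have htI : (t • z : ↥P).1 ∈ (m₀.map (algebraMap A B)) • (⊤ : Submodule B M) := by
        rw [← Submodule.restrictScalars_mem A, Ideal.smul_restrictScalars, Submodule.restrictScalars_top]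
        exact ht
      obtain ⟨t', ht', hmem⟩ := exists_smul_mem_of_inter_le J m₀ q hJq hinter _ (t • z : ↥P).2 htI
      refine (mk_mem_smul_top_iff m₀ q z s).2 ⟨⟨t', ht'⟩ * t, ?_⟩
      rw [← Submodule.restrictScalars_top A B ↥P, ← Ideal.smul_restrictScalars, Submodule.restrictScalars_mem]
      have h2 : ((⟨t', ht'⟩ * t : q.primeCompl) • z : ↥P).1 ∈
          ((m₀.map (algebraMap A B)) • (⊤ : Submodule B ↥P)).map P.subtype := by
        rw [Submodule.map_smul'', Submodule.map_top, Submodule.range_subtype]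
        rw [mul_smul]
        exact hmem
      obtain ⟨w, hw, hwe⟩ := h2
      rwa [← show w = _ from Subtype.ext hwe]
  obtain ⟨-, hflat⟩ := FlatCrit65.injective_and_flat_quotient (S := S) m₀ hmax fA hinj
  have hker' : LinearMap.ker (π.restrictScalars A) = LinearMap.range fA := by
    ext w
    exact hex w
  exact Module.Flat.of_linearEquiv ((Submodule.quotEquivOfEq _ _ hker'.symm ≪≫ₗ
    (π.restrictScalars A).quotKerEquivOfSurjective hπ).symm)

end Groth.Agent.GrStage62
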