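import Groth.Agent.GrStage62.Bound
import Groth.Agent.E4O.NormFlatOpen

/-! A uniform bound for the relations of the fibres of a model, and base change of truncations. -/

set_option autoImplicit false
set_option linter.style.haveILetI false
universe u

open TensorProduct

namespace Groth.Agent.GrStage62

open E4O.NormFlat

section Trunc

variable {B : Type u} [CommRing B] (J : Ideal B) (M : Type u) [AddCommGroup M] [Module B M]
  (B' : Type u) [CommRing B'] [Algebra B B']

/-- Truncations commute with base change. -/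
noncomputable def truncEquiv (k : ℕ) :
    B' ⊗[B] Trunc J M k ≃ₗ[B'] Trunc (J.map (algebraMap B B')) (B' ⊗[B] M) k :=
  let P : Submodule B M := J ^ k • ⊤
  have hker : LinearMap.ker (P.mkQ.baseChange B') = J.map (algebraMap B B') ^ k • (⊤ : Submodule B' (B' ⊗[B] M)) := by
    refine le_antisymm (fun z hz => ?_) (((pow_map_smul_le J M B' k)).trans (Submodule.span_le.2 ?_))
    · obtain ⟨y, rfl⟩ := (lTensor_exact B' (LinearMap.exact_subtype_mkQ P) P.mkQ_surjective z).1 hz
      clear hz
      induction y using TensorProduct.induction_on with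
      | zero => simp
      | tmul b x =>
        rw [LinearMap.lTensor_tmul, show b ⊗ₜ[B] P.subtype x = b • ((1 : B') ⊗ₜ[B] (x : M)) by
          rw [TensorProduct.smul_tmul', smul_eq_mul, mul_one]; rfl]
        exact Submodule.smul_mem _ _ (tmul_mem J M B' k x.2)
      | add a b ha hb => rw [map_add]; exact add_mem ha hb
    · rintro _ ⟨x, hx, rfl⟩
      show P.mkQ.baseChange B' ((1 : B') ⊗ₜ[B] x) = 0
      rw [LinearMap.baseChange_tmul, Submodule.mkQ_apply, (Submodule.Quotient.mk_eq_zero _).2 hx, tmul_zero]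
  (((P.mkQ.baseChange B').quotKerEquivOfSurjective
    (LinearMap.lTensor_surjective B' P.mkQ_surjective)).symm ≪≫ₗ Submodule.quotEquivOfEq _ _ hker)

variable {A A' : Type u} [CommRing A] [CommRing A'] [Algebra A B] [Algebra A A'] [Algebra A' B'] [Algebra A B']
  [IsScalarTower A A' B'] [IsScalarTower A B B'] [Algebra.IsPushout A A' B B'] [Module A M] [IsScalarTower A B M]

/-- Flatness of truncations over the new base. -/
theorem flat_trunc_pushout_iff (k : ℕ) :
    Module.Flat A' (Trunc (J.map (algebraMap B B')) (B' ⊗[B] M) k) ↔ Module.Flat A' (A' ⊗[A] Trunc J M k) := by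
  let e := ((truncEquiv J M B' k).restrictScalars A').symm ≪≫ₗ
    Algebra.IsPushout.cancelBaseChange A A' B B' (Trunc J M k)
  exact ⟨fun h => Module.Flat.of_linearEquiv e.symm, fun h => Module.Flat.of_linearEquiv e⟩

end Trunc

variable {R B₀ : Type u} [CommRing R] [IsNoetherianRing R] [CommRing B₀] [Algebra R B₀] [Algebra.FiniteType R B₀]
  (J₀ : Ideal B₀) (M₀ : Type u) [AddCommGroup M₀] [Module B₀ M₀] [Module.Finite B₀ M₀]
  {r m : ℕ} (g : Fin r → B₀) (e : Fin m → M₀)

/-- The bound on the fibre relations over all fields. -/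
def UnifBound (P : Ideal R) (n : ℕ) : Prop :=
  ∀ (K : Type u) [Field K] [Algebra R K], (∀ a ∈ P, algebraMap R K a = 0) →
    ∀ (BK : Type u) [CommRing BK] [Algebra K BK] [Algebra B₀ BK] [Algebra R BK] [IsScalarTower R K BK]
      [IsScalarTower R B₀ BK] [Algebra.IsPushout R K B₀ BK],
      Bound (fun i => algebraMap B₀ BK (g i)) (fun j => (1 : BK) ⊗ₜ[B₀] e j) (J₀.map (algebraMap B₀ BK)) n

omit [Algebra.FiniteType R B₀] [Module.Finite B₀ M₀] [IsNoetherianRing R] in
theorem UnifBound.mono {P : Ideal R} {n n' : ℕ} (h : UnifBound J₀ M₀ g e P n) (hn : n ≤ n') :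
    UnifBound J₀ M₀ g e P n' := fun K _ _ hP BK _ _ _ _ _ _ _ => (h K hP BK).mono _ _ _ hn

theorem exists_unifBound_prime (hg : Ideal.span (Set.range g) = J₀) (he : Submodule.span B₀ (Set.range e) = ⊤)
    (P : Ideal R) (hP : P.IsPrime) (IH : ∀ Q, P < Q → ∃ n, UnifBound J₀ M₀ g e Q n) :
    ∃ n, UnifBound J₀ M₀ g e P n := by
  obtain ⟨f, T, _, _, S, _, _, _, _, _, _, hpo, hf, hN, hft, hlift, -, hflat⟩ :=
    exists_flat_stratum J₀ M₀ (⟨P, hP⟩ : PrimeSpectrum R)
  haveI : Algebra.FiniteType T S := Algebra.FiniteType.equiv inferInstance (Algebra.IsPushout.equiv R T B₀ S)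
  haveI : IsNoetherianRing S := Algebra.FiniteType.isNoetherianRing T S
  let gS : Fin r → S := fun i => algebraMap B₀ S (g i)
  let eS : Fin m → S ⊗[B₀] M₀ := fun j => (1 : S) ⊗ₜ[B₀] e j
  have hgS : Ideal.span (Set.range gS) = J₀.map (algebraMap B₀ S) := by
    rw [show Set.range gS = algebraMap B₀ S '' Set.range g from Set.range_comp _ _, ← Ideal.map_span, hg]
  have heS : Submodule.span S (Set.range eS) = ⊤ := by
    have := congrArg (Submodule.baseChange S) he
    rw [Submodule.baseChange_span, Submodule.baseChange_top] at this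
    rw [← this, ← Set.range_comp]; rfl
  obtain ⟨n₁, hn₁⟩ := exists_bound gS eS (J₀.map (algebraMap B₀ S)) hgS
  have hlt : P < P ⊔ Ideal.span {f} := lt_of_le_not_ge le_sup_left fun h =>
    hf (h (Submodule.mem_sup_right (Ideal.mem_span_singleton_self f)))
  obtain ⟨n₂, hn₂⟩ := IH _ hlt
  refine ⟨max n₁ n₂, fun K _ _ hK BK _ _ _ _ _ _ hpoK => ?_⟩
  by_cases hfK : algebraMap R K f = 0
  · refine (hn₂ K (fun a ha => ?_) BK).mono _ _ _ (le_max_right _ _)
    obtain ⟨b, hb, c, hc, rfl⟩ := Submodule.mem_sup.1 ha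
    obtain ⟨d, rfl⟩ := Ideal.mem_span_singleton'.1 hc
    rw [map_add, map_mul, hK b hb, hfK, mul_zero, add_zero]
  obtain ⟨θ⟩ := hlift K hK hfK
  letI : Algebra T K := θ.toRingHom.toAlgebra
  haveI : IsScalarTower R T K := IsScalarTower.of_algebraMap_eq fun a => (θ.commutes a).symm
  letI : Algebra T BK := ((algebraMap K BK).comp (algebraMap T K)).toAlgebra
  haveI : IsScalarTower T K BK := IsScalarTower.of_algebraMap_eq fun _ => rfl
  haveI : IsScalarTower R T BK := IsScalarTower.of_algebraMap_eq fun a => by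
    rw [IsScalarTower.algebraMap_apply T K BK, ← IsScalarTower.algebraMap_apply R T K, ← IsScalarTower.algebraMap_apply R K BK]
  letI : Algebra S BK := (Algebra.pushoutDesc (R := R) (S := T) (R' := B₀) (S' := S)
    (IsScalarTower.toAlgHom R T BK) (IsScalarTower.toAlgHom R B₀ BK) (fun x y => mul_comm _ _)).toRingHom.toAlgebra
  haveI : IsScalarTower T S BK := IsScalarTower.of_algebraMap_eq fun a =>
    (Algebra.pushoutDesc_left (R := R) (S := T) (R' := B₀) S (IsScalarTower.toAlgHom R T BK) (IsScalarTower.toAlgHom R B₀ BK) (fun x y => mul_comm _ _) a).symm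
  haveI : IsScalarTower B₀ S BK := IsScalarTower.of_algebraMap_eq fun a =>
    (Algebra.pushoutDesc_right (R := R) (S := T) (R' := B₀) S (IsScalarTower.toAlgHom R T BK) (IsScalarTower.toAlgHom R B₀ BK) (fun x y => mul_comm _ _) a).symm
  haveI : Algebra.IsPushout T K S BK := (Algebra.IsPushout.comp_iff R T B₀ (S' := S) (T := K) (T' := BK)).1 hpoK
  letI : Module T (S ⊗[B₀] M₀) := inferInstance
  have hbc : ∀ k, Function.Bijective (bcMap (J₀.map (algebraMap B₀ S)) (S ⊗[B₀] M₀) BK k) := fun k =>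
    bcMap_bijective_of_pushout (A := T) (A' := K) _ _ BK hflat k
  have h := bound_baseChange gS eS (J₀.map (algebraMap B₀ S)) BK hgS heS hbc hn₁
  have hJ : (J₀.map (algebraMap B₀ S)).map (algebraMap S BK) = J₀.map (algebraMap B₀ BK) := by
    rw [Ideal.map_map, ← IsScalarTower.algebraMap_eq]
  rw [hJ, show (fun i => algebraMap S BK (gS i)) = fun i => algebraMap B₀ BK (g i) from
    funext fun i => (IsScalarTower.algebraMap_apply B₀ S BK (g i)).symm] at h
  refine (bound_congr _ _ _ (AlgebraTensorModule.cancelBaseChange B₀ S BK BK M₀) _ (fun j => ?_) h).mono _ _ _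
    (le_max_left _ _)
  simp [eS]

theorem exists_unifBound (hg : Ideal.span (Set.range g) = J₀) (he : Submodule.span B₀ (Set.range e) = ⊤) :
    ∃ n, UnifBound (R := R) J₀ M₀ g e ⊥ n := by
  suffices ∀ P : Ideal R, ∃ n, UnifBound J₀ M₀ g e P n from this ⊥
  intro P
  induction P using WellFoundedGT.induction with
  | ind P IH =>
    by_cases hP : P.IsPrime
    · exact exists_unifBound_prime J₀ M₀ g e hg he P hP IH
    rcases Ideal.not_isPrime_iff.1 hP with htop | ⟨a, ha, b, hb, hab⟩
    · refine ⟨0, fun K _ _ hK BK _ _ _ _ _ _ _ => absurd (hK 1 (htop ▸ trivial)) (by rw [map_one]; exact one_ne_zero)⟩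
    obtain ⟨na, hna⟩ := IH (P ⊔ Ideal.span {a}) (lt_of_le_not_ge le_sup_left fun h =>
      ha (h (Submodule.mem_sup_right (Ideal.mem_span_singleton_self a))))
    obtain ⟨nb, hnb⟩ := IH (P ⊔ Ideal.span {b}) (lt_of_le_not_ge le_sup_left fun h =>
      hb (h (Submodule.mem_sup_right (Ideal.mem_span_singleton_self b))))
    refine ⟨max na nb, fun K _ _ hK BK _ _ _ _ _ _ _ => ?_⟩
    have key : ∀ c : R, algebraMap R K c = 0 → ∀ d ∈ P ⊔ Ideal.span {c}, algebraMap R K d = 0 := by
      intro c hc d hd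
      obtain ⟨u, hu, w, hw, rfl⟩ := Submodule.mem_sup.1 hd
      obtain ⟨v, rfl⟩ := Ideal.mem_span_singleton'.1 hw
      rw [map_add, map_mul, hK u hu, hc, mul_zero, add_zero]
    rcases mul_eq_zero.1 ((map_mul (algebraMap R K) a b).symm.trans (hK _ hab)) with h | h
    · exact (hna K (key a h) BK).mono _ _ _ (le_max_left _ _)
    · exact (hnb K (key b h) BK).mono _ _ _ (le_max_right _ _)

end Groth.Agent.GrStage62
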