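import Groth.Agent.GrStage62.Criterion
import Groth.Agent.GrStage62.Uniform

/-! The local form of flatness of all truncations, for base changes of a model. -/

set_option autoImplicit false
set_option linter.style.haveILetI false
universe u

open TensorProduct

namespace Groth.Agent.GrStage62

open E4O.NormFlat

/-- Generators after extension of scalars. -/
theorem span_one_tmul {B B' M : Type u} [CommRing B] [CommRing B'] [Algebra B B'] [AddCommGroup M] [Module B M]
    {m : ℕ} {e : Fin m → M} (he : Submodule.span B (Set.range e) = ⊤) :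
    Submodule.span B' (Set.range fun j => (1 : B') ⊗ₜ[B] e j) = ⊤ := by
  have := congrArg (Submodule.baseChange B') he
  rw [Submodule.baseChange_span, Submodule.baseChange_top] at this
  rw [← this, ← Set.range_comp]; rfl

theorem span_algebraMap {B B' : Type u} [CommRing B] [CommRing B'] [Algebra B B'] {J : Ideal B} {r : ℕ}
    {g : Fin r → B} (hg : Ideal.span (Set.range g) = J) :
    Ideal.span (Set.range fun i => algebraMap B B' (g i)) = J.map (algebraMap B B') := by
  rw [show (Set.range fun i => algebraMap B B' (g i)) = algebraMap B B' '' Set.range g from Set.range_comp _ _,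
    ← Ideal.map_span, hg]

variable {R B₀ : Type u} [CommRing R] [CommRing B₀] [Algebra R B₀]
  (J₀ : Ideal B₀) (M₀ : Type u) [AddCommGroup M₀] [Module B₀ M₀] {r m : ℕ} (g : Fin r → B₀) (e : Fin m → M₀)

/-- The bound over a residue field of the base, on the base changed model. -/
theorem bound_residue {n : ℕ} (hunif : UnifBound (R := R) J₀ M₀ g e ⊥ n)
    (A B B' : Type u) [CommRing A] [CommRing B] [CommRing B'] [Algebra R A] [Algebra A B] [Algebra R B] [Algebra B₀ B]
    [IsScalarTower R A B] [IsScalarTower R B₀ B] [Algebra.IsPushout R A B₀ B]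
    (K : Type u) [Field K] [Algebra A K] [Algebra R K] [IsScalarTower R A K]
    [Algebra K B'] [Algebra B B'] [Algebra A B'] [IsScalarTower A K B'] [IsScalarTower A B B']
    [Algebra.IsPushout A K B B'] :
    Bound (fun i => algebraMap B B' (algebraMap B₀ B (g i)))
      (fun j => (1 : B') ⊗ₜ[B] ((1 : B) ⊗ₜ[B₀] e j)) ((J₀.map (algebraMap B₀ B)).map (algebraMap B B')) n := by
  letI : Algebra B₀ B' := ((algebraMap B B').comp (algebraMap B₀ B)).toAlgebra
  haveI : IsScalarTower B₀ B B' := IsScalarTower.of_algebraMap_eq fun _ => rfl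
  letI : Algebra R B' := ((algebraMap A B').comp (algebraMap R A)).toAlgebra
  haveI : IsScalarTower R A B' := IsScalarTower.of_algebraMap_eq fun _ => rfl
  haveI : IsScalarTower R K B' := IsScalarTower.of_algebraMap_eq fun a => by
    show algebraMap A B' (algebraMap R A a) = _
    rw [IsScalarTower.algebraMap_apply R A K, ← IsScalarTower.algebraMap_apply A K B']
  haveI : IsScalarTower R B₀ B' := IsScalarTower.of_algebraMap_eq fun a => by
    show algebraMap A B' (algebraMap R A a) = algebraMap B B' (algebraMap B₀ B (algebraMap R B₀ a))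
    rw [← IsScalarTower.algebraMap_apply R B₀ B, IsScalarTower.algebraMap_apply R A B,
      ← IsScalarTower.algebraMap_apply A B B']
  haveI : IsScalarTower R B B' := IsScalarTower.of_algebraMap_eq fun a => by
    show algebraMap A B' (algebraMap R A a) = _
    rw [IsScalarTower.algebraMap_apply R A B, ← IsScalarTower.algebraMap_apply A B B']
  haveI : Algebra.IsPushout R K B₀ B' :=
    (Algebra.IsPushout.comp_iff R A B₀ (S' := B) (T := K) (T' := B')).2 inferInstance
  have hb := hunif K (fun a ha => by rw [Submodule.mem_bot] at ha; rw [ha, map_zero]) B'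
  have hJ : (J₀.map (algebraMap B₀ B)).map (algebraMap B B') = J₀.map (algebraMap B₀ B') := Ideal.map_map _ _
  rw [hJ]
  exact bound_congr _ _ _ (AlgebraTensorModule.cancelBaseChange B₀ B B' B' M₀).symm _ (fun j => by simp) hb

variable [Module.Finite B₀ M₀] [Module R M₀] [IsScalarTower R B₀ M₀]

/-- All base changed truncations are flat at the points of `V(J)` over the closed point of a local base. -/
theorem flat_trunc_local (hg : Ideal.span (Set.range g) = J₀) (he : Submodule.span B₀ (Set.range e) = ⊤)
    {n : ℕ} (hunif : UnifBound (R := R) J₀ M₀ g e ⊥ n)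
    (A B : Type u) [CommRing A] [IsLocalRing A] [IsNoetherianRing A] [CommRing B] [IsNoetherianRing B]
    [Algebra R A] [Algebra A B] [Algebra R B] [Algebra B₀ B] [IsScalarTower R A B] [IsScalarTower R B₀ B]
    [Algebra.IsPushout R A B₀ B]
    (hlow : ∀ k ≤ n, Module.Flat A (A ⊗[R] Trunc J₀ M₀ k))
    (q : Ideal B) [q.IsPrime] (hJq : J₀.map (algebraMap B₀ B) ≤ q)
    (hmq : (IsLocalRing.maximalIdeal A).map (algebraMap A B) ≤ q)
    (hM : Module.Flat A (LocalizedModule q.primeCompl (B ⊗[B₀] M₀))) (k : ℕ) :
    Module.Flat A (LocalizedModule q.primeCompl (Trunc (J₀.map (algebraMap B₀ B)) (B ⊗[B₀] M₀) k)) := by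
  letI : Field (A ⧸ IsLocalRing.maximalIdeal A) := Ideal.Quotient.field _
  haveI : Algebra.IsPushout A (A ⧸ IsLocalRing.maximalIdeal A) B (B ⧸ (IsLocalRing.maximalIdeal A).map (algebraMap A B)) :=
    Algebra.IsPushout.symm (isPushout_quotient _)
  exact flat_trunc_localized (A := A) (J₀.map (algebraMap B₀ B)) (fun i => algebraMap B₀ B (g i))
    (fun j => (1 : B) ⊗ₜ[B₀] e j) (span_algebraMap hg) (span_one_tmul he)
    (TensorProduct.mk B (B ⧸ (IsLocalRing.maximalIdeal A).map (algebraMap A B)) (B ⊗[B₀] M₀) 1)
    Ideal.Quotient.mk_surjective (TensorProduct.mk_surjective B _ _ Ideal.Quotient.mk_surjective)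
    Ideal.mk_ker (fun z => FlatCrit65.one_tmul_eq_zero_iff _ z)
    (bound_residue J₀ M₀ g e hunif A B _ (A ⧸ IsLocalRing.maximalIdeal A))
    (fun j hj => (flat_trunc_pushout_iff (A := R) (A' := A) J₀ M₀ B j).2 (hlow j hj)) q hJq hmq hM k

end Groth.Agent.GrStage62
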