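import Groth.Agent.GrStage62.Uniform
import Groth.Agent.Cons62.Model
import Groth.Agent.Fib62.Model

/-! A Noetherian model of the truncations of a finitely presented module along a finitely generated ideal. -/

set_option autoImplicit false
set_option linter.style.haveILetI false
universe u

open TensorProduct

namespace Groth.Agent.GrStage62

open E4O.NormFlat

/-- Right exactness: quotient by the image of a base changed submodule. -/
noncomputable def quotRangeEquiv {A₀ : Type u} [CommRing A₀] (C : Type u) [CommRing C] [Algebra A₀ C]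
    {M : Type u} [AddCommGroup M] [Module A₀ M] (N : Submodule A₀ M) :
    ((C ⊗[A₀] M) ⧸ LinearMap.range (N.subtype.baseChange C)) ≃ₗ[C] C ⊗[A₀] (M ⧸ N) :=
  Function.Exact.linearEquivOfSurjective (f := N.subtype.baseChange C) (g := N.mkQ.baseChange C)
    (lTensor_exact C (LinearMap.exact_subtype_mkQ _) (Submodule.mkQ_surjective _))
    (LinearMap.lTensor_surjective C (Submodule.mkQ_surjective _))

/-- The truncations of a model. -/
theorem exists_trunc_model {A₀ B₀ M₀ : Type u} [CommRing A₀] [CommRing B₀] [Algebra A₀ B₀]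
    [Algebra.FinitePresentation A₀ B₀] (J₀ : Ideal B₀) (hJ₀ : J₀.FG)
    [AddCommGroup M₀] [Module B₀ M₀] [Module A₀ M₀] [IsScalarTower A₀ B₀ M₀] [Module.FinitePresentation B₀ M₀] :
    ∃ (R : Subalgebra ℤ A₀) (B' : Type u) (_ : CommRing B') (_ : Algebra R B') (J' : Ideal B')
      (M' : Type u) (_ : AddCommGroup M') (_ : Module B' M') (_ : Module R M') (_ : IsScalarTower R B' M'),
      IsNoetherianRing R ∧ Algebra.FiniteType R B' ∧ Module.Finite B' M' ∧
      ∀ k : ℕ, Nonempty (A₀ ⊗[R] Trunc J' M' k ≃ₗ[A₀] M₀ ⧸ (J₀ ^ k • (⊤ : Submodule B₀ M₀)).restrictScalars A₀) := by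
  classical
  obtain ⟨m, π, hπ⟩ := Module.Finite.exists_fin' B₀ M₀
  obtain ⟨w, hw⟩ := (Module.FinitePresentation.fg_ker π hπ : (LinearMap.ker π).FG)
  obtain ⟨r, g, hg⟩ := Submodule.fg_iff_exists_fin_generating_family.1 hJ₀
  obtain ⟨R, B', _, _, e, hN, hfp, hsub⟩ := Cons62.exists_model (A := A₀) (B := B₀)
    (t := Set.range g ∪ ⋃ v ∈ (w : Set (Fin m → B₀)), Set.range v)
    ((Set.finite_range g).union (w.finite_toSet.biUnion fun v _ => Set.finite_range v))
  choose g' hg' using fun i => hsub (Or.inl ⟨i, rfl⟩ : g i ∈ _)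
  choose l hl using fun (v : ↥(w : Set (Fin m → B₀))) (i : Fin m) => hsub (Or.inr (Set.mem_biUnion v.2 ⟨i, rfl⟩))
  letI : Algebra B' B₀ :=
    ((e : A₀ ⊗[R] B' →+* B₀).comp (Algebra.TensorProduct.includeRight : B' →ₐ[R] A₀ ⊗[R] B').toRingHom).toAlgebra
  have halg : ∀ b, algebraMap B' B₀ b = e (1 ⊗ₜ b) := fun b => rfl
  haveI : IsScalarTower R B' B₀ := IsScalarTower.of_algebraMap_eq fun a =>
    (((e.toAlgHom.restrictScalars R).comp (Algebra.TensorProduct.includeRight : B' →ₐ[R] A₀ ⊗[R] B')).commutes a).symm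
  haveI : Algebra.IsPushout R A₀ B' B₀ := Fib62.isPushout_of_equiv e halg
  let L : Submodule B' (Fin m → B') := Submodule.span B' (Set.range l)
  let M' := (Fin m → B') ⧸ L
  letI : Module B' M₀ := Module.compHom M₀ (algebraMap B' B₀)
  haveI : IsScalarTower B' B₀ M₀ := IsScalarTower.of_algebraMap_smul fun _ _ => rfl
  let ψ₀ : (Fin m → B') →ₗ[B'] M₀ := (π.restrictScalars B').comp ((Algebra.linearMap B' B₀).compLeft (Fin m))
  have hψ : L ≤ LinearMap.ker ψ₀ := Submodule.span_le.2 <| by
    rintro _ ⟨v, rfl⟩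
    show π (fun i => algebraMap B' B₀ (l v i)) = 0
    rw [show (fun i => algebraMap B' B₀ (l v i)) = (v : Fin m → B₀) from funext fun i => hl v i, ← LinearMap.mem_ker, ← hw]
    exact Submodule.subset_span v.2
  let eb : Fin m → B₀ ⊗[B'] M' := fun i => (1 : B₀) ⊗ₜ[B'] Submodule.Quotient.mk (Pi.single i 1)
  let F : (Fin m → B₀) →ₗ[B₀] B₀ ⊗[B'] M' := Fintype.linearCombination B₀ eb
  have hF : ∀ x : Fin m → B', F (fun i => algebraMap B' B₀ (x i)) = (1 : B₀) ⊗ₜ[B'] Submodule.Quotient.mk x := by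
    intro x
    rw [Fintype.linearCombination_apply]
    conv_rhs => rw [pi_eq_sum_univ' x, ← Submodule.mkQ_apply, map_sum, tmul_sum]
    refine Finset.sum_congr rfl fun i _ => ?_
    rw [map_smul, tmul_smul, algebraMap_smul]
    rfl
  have hFker : LinearMap.ker π ≤ LinearMap.ker F := by
    rw [← hw, Submodule.span_le]
    intro v hv
    rw [SetLike.mem_coe, LinearMap.mem_ker, show v = fun i => algebraMap B' B₀ (l ⟨v, hv⟩ i) from funext fun i => (hl ⟨v, hv⟩ i).symm, hF,
      (Submodule.Quotient.mk_eq_zero L).2 (Submodule.subset_span ⟨_, rfl⟩), tmul_zero]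
  let G : M₀ →ₗ[B₀] B₀ ⊗[B'] M' :=
    ((LinearMap.ker π).liftQ F hFker).comp (π.quotKerEquivOfSurjective hπ).symm.toLinearMap
  have hG : ∀ x, G (π x) = F x := fun x => by
    show (LinearMap.ker π).liftQ F hFker ((π.quotKerEquivOfSurjective hπ).symm (π x)) = F x
    rw [show (π.quotKerEquivOfSurjective hπ).symm (π x) = Submodule.Quotient.mk x from
      (LinearEquiv.symm_apply_eq _).2 rfl]
    rfl
  let Ψ : B₀ ⊗[B'] M' →ₗ[B₀] M₀ := (L.liftQ ψ₀ hψ).liftBaseChange B₀
  have h1 : ∀ z, G (Ψ z) = z := by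
    intro z
    induction z using TensorProduct.induction_on with
    | zero => rw [map_zero, map_zero]
    | add a b ha hb => rw [map_add, map_add, ha, hb]
    | tmul b x =>
      obtain ⟨x, rfl⟩ := Submodule.Quotient.mk_surjective L x
      rw [LinearMap.liftBaseChange_tmul, map_smul, Submodule.liftQ_apply]
      show b • G (π fun i => algebraMap B' B₀ (x i)) = _
      rw [hG, hF, TensorProduct.smul_tmul', smul_eq_mul, mul_one]
  have h2 : ∀ x, Ψ (G x) = x := by
    intro x
    obtain ⟨x, rfl⟩ := hπ x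
    rw [hG]
    conv_rhs => rw [pi_eq_sum_univ' x, map_sum]
    rw [Fintype.linearCombination_apply, map_sum]
    refine Finset.sum_congr rfl fun i _ => ?_
    rw [map_smul, map_smul, LinearMap.liftBaseChange_tmul, one_smul, Submodule.liftQ_apply]
    show x i • π (fun j => algebraMap B' B₀ ((Pi.single i (1 : B') : Fin m → B') j)) = _
    congr 1
    congr 1
    funext j
    by_cases h : j = i
    · subst h; simp
    · simp [h]
  let E : B₀ ⊗[B'] M' ≃ₗ[B₀] M₀ := LinearEquiv.ofLinear Ψ G (LinearMap.ext h2) (LinearMap.ext h1)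
  let J' : Ideal B' := Ideal.span (Set.range g')
  have hJ : J'.map (algebraMap B' B₀) = J₀ := by
    rw [Ideal.map_span, ← Set.range_comp, show algebraMap B' B₀ ∘ g' = g from funext hg']
    exact hg
  refine ⟨R, B', inferInstance, inferInstance, J', M', inferInstance, inferInstance, inferInstance, inferInstance, hN,
    inferInstance, inferInstance, fun k => ⟨?_⟩⟩
  exact (Algebra.IsPushout.cancelBaseChange R A₀ B' B₀ (Trunc J' M' k)).symm ≪≫ₗ
    ((truncEquiv J' M' B₀ k ≪≫ₗ Submodule.Quotient.equiv _ _ E (by rw [map_pow_smul_top, hJ])).restrictScalars A₀) ≪≫ₗ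
    (Submodule.Quotient.restrictScalarsEquiv A₀ (J₀ ^ k • (⊤ : Submodule B₀ M₀))).symm

end Groth.Agent.GrStage62
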