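import Groth.Agent.GrStage62.Local
import Groth.Agent.Fib62.FlatExt
import Groth.Agent.FlatMor67.FlatAtStage

/-! All truncations are flat at a stage where finitely many are and the module is flat near `V(J)`. -/

set_option autoImplicit false
set_option linter.style.haveILetI false
universe u

open TensorProduct

attribute [local instance] Algebra.TensorProduct.rightAlgebra

namespace Groth.Agent.GrStage62

open E4O.NormFlat

/-- Localized modules of isomorphic modules. -/
theorem flat_localized_congr {A B X Y : Type u} [CommRing A] [CommRing B] [Algebra A B] [AddCommMonoid X] [Module B X]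
    [AddCommMonoid Y] [Module B Y] [Module A X] [Module A Y] [IsScalarTower A B X] [IsScalarTower A B Y]
    (Q : Ideal B) [Q.IsPrime] (E : X ≃ₗ[B] Y) :
    Module.Flat A (LocalizedModule Q.primeCompl X) ↔ Module.Flat A (LocalizedModule Q.primeCompl Y) :=
  Module.Flat.equiv_iff ((IsLocalizedModule.mapEquiv Q.primeCompl (LocalizedModule.mkLinearMap Q.primeCompl X)
    (LocalizedModule.mkLinearMap Q.primeCompl Y) (Localization Q.primeCompl) E).restrictScalars A)

theorem flat_localized_cancel {A B₀ B B' : Type u} [CommRing A] [CommRing B₀] [CommRing B] [CommRing B'] [Algebra A B']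
    [Algebra B₀ B] [Algebra B B'] [Algebra B₀ B'] [IsScalarTower B₀ B B'] (X : Type u) [AddCommGroup X] [Module B₀ X]
    (Q : Ideal B') [Q.IsPrime] :
    Module.Flat A (LocalizedModule Q.primeCompl (B' ⊗[B] (B ⊗[B₀] X))) ↔
      Module.Flat A (LocalizedModule Q.primeCompl (B' ⊗[B₀] X)) :=
  flat_localized_congr Q (AlgebraTensorModule.cancelBaseChange B₀ B B' B' X)

theorem smul_trunc_eq_zero {B : Type u} [CommRing B] (J : Ideal B) (M : Type u) [AddCommGroup M] [Module B M] (k : ℕ)
    {a : B} (ha : a ∈ J) (z : Trunc J M k) : a ^ k • z = 0 := by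
  obtain ⟨z, rfl⟩ := Submodule.Quotient.mk_surjective _ z
  rw [← Submodule.Quotient.mk_smul, Submodule.Quotient.mk_eq_zero]
  exact Submodule.smul_mem_smul (Ideal.pow_mem_pow ha k) trivial

/-- Modules killed by powers of the elements of an ideal vanish off its zero locus. -/
theorem flat_localized_of_not_le {B₀ B C : Type u} [CommRing B₀] [CommRing B] [Algebra B₀ B]
    [CommRing C] [Algebra C B] (J₀ : Ideal B₀) (X : Type u) [AddCommGroup X] [Module B X] [Module C X]
    [IsScalarTower C B X] (k : ℕ) (q : Ideal B) [q.IsPrime] (hJq : ¬ J₀.map (algebraMap B₀ B) ≤ q)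
    (hX : ∀ a ∈ J₀, ∀ z : X, (algebraMap B₀ B a) ^ k • z = 0) :
    Module.Flat C (LocalizedModule q.primeCompl X) := by
  obtain ⟨_, ⟨a, ha, rfl⟩, haq⟩ := Set.not_subset.1 (fun hsub => hJq (Ideal.span_le.2 hsub) :
    ¬ (algebraMap B₀ B '' J₀ : Set B) ⊆ q)
  haveI : Subsingleton (LocalizedModule q.primeCompl X) := LocalizedModule.subsingleton_iff.2 fun z =>
    ⟨_, fun hm => haq ((inferInstance : q.IsPrime).mem_of_pow_mem k hm), hX a ha z⟩
  infer_instance

variable {R B₀ : Type u} [CommRing R] [CommRing B₀] [Algebra R B₀] [Algebra.FiniteType R B₀]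
  (J₀ : Ideal B₀) (M₀ : Type u) [AddCommGroup M₀] [Module B₀ M₀] [Module R M₀] [IsScalarTower R B₀ M₀]
  [Module.Finite B₀ M₀] {r m : ℕ} (g : Fin r → B₀) (e : Fin m → M₀)

/-- All truncations are flat at a stage. -/
theorem flat_trunc_of_stage (C : Type u) [CommRing C] [Algebra R C] [IsNoetherianRing C]
    (hg : Ideal.span (Set.range g) = J₀) (he : Submodule.span B₀ (Set.range e) = ⊤)
    {n : ℕ} (hunif : UnifBound (R := R) J₀ M₀ g e ⊥ n)
    (hlow : ∀ k ≤ n, Module.Flat C (C ⊗[R] Trunc J₀ M₀ k))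
    (h : C ⊗[R] B₀) (hh : h - 1 ∈ J₀.map (algebraMap B₀ (C ⊗[R] B₀))) (hopen : FlatMor67.FlatOnBasic M₀ C h)
    (k : ℕ) : Module.Flat C (C ⊗[R] Trunc J₀ M₀ k) := by
  let Bc := C ⊗[R] B₀
  haveI : IsScalarTower R B₀ Bc := IsScalarTower.of_algebraMap_eq fun a => by
    show algebraMap R C a ⊗ₜ[R] (1 : B₀) = (1 : C) ⊗ₜ[R] algebraMap R B₀ a
    rw [Algebra.algebraMap_eq_smul_one, Algebra.algebraMap_eq_smul_one, TensorProduct.smul_tmul]
  haveI : IsNoetherianRing Bc := Algebra.FiniteType.isNoetherianRing C Bc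
  let Jc := J₀.map (algebraMap B₀ Bc)
  let Mc := Bc ⊗[B₀] M₀
  haveI : Algebra.IsPushout R C B₀ Bc := inferInstance
  let T := Trunc J₀ M₀ k
  refine @Module.Flat.of_linearEquiv C _ _ _ _ _ _ _ ?_
    (Algebra.IsPushout.cancelBaseChange R C B₀ Bc T).symm
  refine Module.flat_of_isLocalized_maximal (R := C) Bc (Bc ⊗[B₀] T)
    (fun q => LocalizedModule q.primeCompl (Bc ⊗[B₀] T))
    (fun q _ => LocalizedModule.mkLinearMap q.primeCompl (Bc ⊗[B₀] T)) fun q hqmax => ?_
  by_cases hJq : Jc ≤ q
  swap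
  · refine flat_localized_of_not_le J₀ (Bc ⊗[B₀] T) (C := C) k q hJq fun a ha z => ?_
    rw [← map_pow, algebraMap_smul]
    induction z using TensorProduct.induction_on with
    | zero => rw [smul_zero]
    | tmul b t => rw [← tmul_smul, smul_trunc_eq_zero J₀ M₀ k ha, tmul_zero]
    | add x y hx hy => rw [smul_add, hx, hy, add_zero]
  have hhq : h ∉ q := fun hm => hqmax.ne_top ((Ideal.eq_top_iff_one q).2 (by
    simpa using sub_mem hm (hJq hh)))
  have hMc : Module.Flat C (LocalizedModule q.primeCompl Mc) := hopen q hhq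
  let p : Ideal C := q.comap (algebraMap C Bc)
  let Cp := Localization.AtPrime p
  let S := Algebra.algebraMapSubmonoid Bc p.primeCompl
  let Bp := Localization S
  haveI : IsScalarTower R Cp Bp := IsScalarTower.of_algebraMap_eq fun a => by
    rw [IsScalarTower.algebraMap_apply R C Cp, ← IsScalarTower.algebraMap_apply C Cp Bp, ← IsScalarTower.algebraMap_apply R C Bp]
  haveI : Algebra.IsPushout C Cp Bc Bp := Algebra.IsPushout.symm (Algebra.isPushout_of_isLocalization p.primeCompl Cp Bc Bp)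
  haveI : IsNoetherianRing Bp := IsLocalization.isNoetherianRing S Bp inferInstance
  haveI : Module.Flat C Cp := IsLocalization.flat Cp p.primeCompl
  have hdisj : Disjoint (S : Set Bc) (q : Set Bc) := by
    rw [Set.disjoint_left]
    rintro _ ⟨c, hc, rfl⟩ hcq
    exact hc hcq
  let Q' : Ideal Bp := q.map (algebraMap Bc Bp)
  haveI : Q'.IsPrime := IsLocalization.isPrime_of_isPrime_disjoint S Bp q inferInstance hdisj
  haveI : Q'.LiesOver q := ⟨(IsLocalization.under_map_of_isPrime_disjoint S Bp (I := q) inferInstance hdisj).symm⟩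
  haveI hpo₁ : Algebra.IsPushout R Cp B₀ Bp :=
    (Algebra.IsPushout.comp_iff R C B₀ (S' := Bc) (T := Cp) (T' := Bp)).2 inferInstance
  rw [Fib62.flat_localized_baseChange_iff (D := C) (D' := Cp) (S := Bc) (S' := Bp) (Bc ⊗[B₀] T) q Q']
  refine (flat_localized_cancel T Q').2 ((flat_localized_congr Q' (truncEquiv J₀ M₀ Bp k)).2 ?_)
  refine flat_trunc_local J₀ M₀ g e hg he hunif Cp Bp (fun j hj => ?_) Q' ?_ ?_
    ((flat_localized_cancel M₀ Q').1
      ((Fib62.flat_localized_baseChange_iff (D := C) (D' := Cp) (S := Bc) (S' := Bp) Mc q Q').1 hMc)) k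
  · haveI := hlow j hj
    exact Module.Flat.of_linearEquiv (AlgebraTensorModule.cancelBaseChange R C Cp Cp (Trunc J₀ M₀ j)).symm
  · rw [IsScalarTower.algebraMap_eq B₀ Bc Bp, ← Ideal.map_map]
    exact Ideal.map_mono hJq
  · rw [← Localization.AtPrime.map_eq_maximalIdeal, Ideal.map_map, ← IsScalarTower.algebraMap_eq,
      IsScalarTower.algebraMap_eq C Bc Bp, ← Ideal.map_map]
    exact Ideal.map_mono Ideal.map_comap_le

end Groth.Agent.GrStage62
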